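import Groth.Agent.Lib.NormAmple.DetInt
import Groth.Agent.Lib.SpecDense.Core
import Groth.Agent.Lib.McCoy19.Basic

/-!
# Norms after base change of integral elements
-/

set_option linter.style.haveILetI false

universe u v

open TensorProduct MvPolynomial

namespace GrothLib.NormBC

theorem isRegular_det_of_injective {R : Type u} [CommRing R] {n : ℕ} (M : Matrix (Fin n) (Fin n) R)
    (h : Function.Injective M.mulVec) : IsRegular M.det := by
  classical
  rw [isRegular_iff_mem_nonZeroDivisors, mem_nonZeroDivisors_iff_left]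
  intro a ha
  by_contra hne
  obtain ⟨x, hx, hMx⟩ := GrothLib.McCoy19.exists_ker_of_mul_minors M hne (fun y hy => by
    induction hy using Submodule.span_induction with
    | mem y hy =>
      obtain ⟨⟨f, g⟩, rfl⟩ := hy
      dsimp only
      have hT : M.submatrix f id = (1 : Matrix (Fin n) (Fin n) R).submatrix f id * M := by
        ext i j
        simp [Matrix.mul_apply, Matrix.one_apply]
      rw [GrothLib.McCoy19.submatrix_eq_mul, Matrix.det_mul, hT, Matrix.det_mul]
      calc a * (((1 : Matrix (Fin n) (Fin n) R).submatrix f id).det * M.det *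
            ((1 : Matrix (Fin n) (Fin n) R).submatrix id g).det)
          = ((1 : Matrix (Fin n) (Fin n) R).submatrix f id).det * (a * M.det) *
            ((1 : Matrix (Fin n) (Fin n) R).submatrix id g).det := by ring
        _ = 0 := by rw [mul_comm a, ha, mul_zero, zero_mul]
    | zero => rw [mul_zero]
    | add x y _ _ hx hy => rw [mul_add, hx, hy, add_zero]
    | smul r x _ hx => rw [smul_eq_mul, mul_left_comm, hx, mul_zero])
  exact hx (h (hMx.trans (Matrix.mulVec_zero M).symm))

variable {K L : Type u} [Field K] [Field L] [Algebra K L] {d : ℕ} (bas : Module.Basis (Fin d) K L)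

theorem leftMulMatrix_tmul (P : Type u) [CommRing P] [Algebra K P] (p : P) (b : L) :
    Algebra.leftMulMatrix (Algebra.TensorProduct.basis P bas) (p ⊗ₜ[K] b) =
      p • (Algebra.leftMulMatrix bas b).map (algebraMap K P) := by
  ext i j
  rw [Algebra.leftMulMatrix_eq_repr_mul, Algebra.TensorProduct.basis_apply,
    Algebra.TensorProduct.tmul_mul_tmul, mul_one, Algebra.TensorProduct.basis_repr_tmul,
    Matrix.smul_apply, Matrix.map_apply, Algebra.leftMulMatrix_eq_repr_mul]
  simp

/-- The generic matrix of multiplication. -/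
noncomputable def genMatrix {ι : Type} [Fintype ι] (b : ι → L) :
    Matrix (Fin d) (Fin d) (MvPolynomial ι K) :=
  Algebra.leftMulMatrix (Algebra.TensorProduct.basis (MvPolynomial ι K) bas) (∑ i, X i ⊗ₜ[K] b i)

theorem map_genMatrix {ι : Type} [Fintype ι] (b : ι → L) (P : Type u) [CommRing P] [Algebra K P]
    (r : ι → P) :
    (genMatrix bas b).map (aeval r) =
      Algebra.leftMulMatrix (Algebra.TensorProduct.basis P bas) (∑ i, r i ⊗ₜ[K] b i) := by
  rw [genMatrix, map_sum, map_sum]
  ext i j
  simp only [Matrix.map_apply, Matrix.sum_apply, map_sum, leftMulMatrix_tmul, Matrix.smul_apply,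
    smul_eq_mul, map_mul, aeval_X, AlgHom.commutes]

variable {A : Type u} [CommRing A] [IsDomain A] [IsIntegrallyClosed A] [Algebra A K]
  [IsFractionRing A K] [Algebra A L] [IsScalarTower A K L]

attribute [local instance] MvPolynomial.algebraMvPolynomial

/-- The determinant of the generic matrix has coefficients in the base. -/
theorem exists_det_eq {n : ℕ} (b : Fin n → L) (hb : ∀ i, IsIntegral A (b i)) :
    ∃ F : MvPolynomial (Fin n) A, MvPolynomial.map (algebraMap A K) F = (genMatrix bas b).det := by
  set PA := MvPolynomial (Fin n) A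
  set PK := MvPolynomial (Fin n) K
  haveI : IsScalarTower A PA PK := IsScalarTower.of_algebraMap_eq fun a => by
    rw [MvPolynomial.algebraMap_def, MvPolynomial.algebraMap_eq, MvPolynomial.map_C,
      IsScalarTower.algebraMap_apply A K PK, MvPolynomial.algebraMap_eq]
  haveI : SMulCommClass PA K PK := ⟨fun x c y => by
    rw [Algebra.smul_def, Algebra.smul_def, Algebra.smul_def, Algebra.smul_def]; ring⟩
  haveI : SMulCommClass K PA PK := SMulCommClass.symm _ _ _
  have hterm : ∀ i, IsIntegral PA (X i ⊗ₜ[K] b i : PK ⊗[K] L) := fun i => by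
    have h1 : IsIntegral PA ((1 : PK) ⊗ₜ[K] b i) := by
      obtain ⟨p, hp, hp0⟩ := hb i
      refine ⟨p.map (algebraMap A PA), hp.map _, ?_⟩
      let φ : L →+* PK ⊗[K] L := (Algebra.TensorProduct.includeRight (R := K) (A := PK) (B := L)).toRingHom
      have hc : (algebraMap PA (PK ⊗[K] L)).comp (algebraMap A PA) = φ.comp (algebraMap A L) := by
        refine RingHom.ext fun a => ?_
        show algebraMap PK (PK ⊗[K] L) (algebraMap PA PK (algebraMap A PA a)) = φ (algebraMap A L a)
        rw [← IsScalarTower.algebraMap_apply A PA PK, IsScalarTower.algebraMap_apply A K PK,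
          IsScalarTower.algebraMap_apply A K L, ← IsScalarTower.algebraMap_apply K PK]
        exact ((Algebra.TensorProduct.includeRight (R := K) (A := PK) (B := L)).commutes _).symm
      rw [Polynomial.eval₂_map, hc]
      show Polynomial.eval₂ (φ.comp (algebraMap A L)) (φ (b i)) p = 0
      rw [← Polynomial.hom_eval₂, hp0, map_zero]
    have h2 : (X i ⊗ₜ[K] b i : PK ⊗[K] L) = algebraMap PA (PK ⊗[K] L) (X i) * (1 ⊗ₜ b i) := by
      show _ = (algebraMap PK (PK ⊗[K] L)) (algebraMap PA PK (X i)) * _
      rw [MvPolynomial.algebraMap_def, MvPolynomial.map_X, Algebra.TensorProduct.algebraMap_apply,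
        Algebra.algebraMap_self_apply, Algebra.TensorProduct.tmul_mul_tmul, mul_one, one_mul]
    rw [h2]
    exact isIntegral_algebraMap.mul h1
  have hx : IsIntegral PA (∑ i, X i ⊗ₜ[K] b i : PK ⊗[K] L) := IsIntegral.sum _ fun i _ => hterm i
  obtain ⟨p, hp, hp0⟩ := hx
  let Ω := AlgebraicClosure (FractionRing PK)
  let ν : PK ⊗[K] L →+* Matrix (Fin d) (Fin d) Ω :=
    (algebraMap PK Ω).mapMatrix.comp
      (Algebra.leftMulMatrix (Algebra.TensorProduct.basis PK bas)).toRingHom
  have hν : Polynomial.aeval (ν (∑ i, X i ⊗ₜ[K] b i)) p = 0 := by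
    have h := congrArg ν hp0
    rw [map_zero, Polynomial.hom_eval₂] at h
    rw [Polynomial.aeval_def, ← h]
    congr 1
    refine RingHom.ext fun q => ?_
    show algebraMap PA (Matrix (Fin d) (Fin d) Ω) q = (algebraMap PK Ω).mapMatrix
      (Algebra.leftMulMatrix (Algebra.TensorProduct.basis PK bas) (algebraMap PK (PK ⊗[K] L) (algebraMap PA PK q)))
    rw [AlgHom.commutes, Matrix.algebraMap_eq_diagonal, Matrix.algebraMap_eq_diagonal,
      RingHom.mapMatrix_apply, Matrix.diagonal_map (map_zero _)]
    rfl
  have hint := GrothLib.NormAmple.isIntegral_det_of_aeval_eq_zero _ p hp hν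
  have hdet : (ν (∑ i, X i ⊗ₜ[K] b i)).det = algebraMap PK Ω (genMatrix bas b).det :=
    ((algebraMap PK Ω).map_det _).symm
  rw [hdet] at hint
  have hinj : Function.Injective (algebraMap PK Ω) := by
    rw [IsScalarTower.algebraMap_eq PK (FractionRing PK) Ω]
    exact (algebraMap (FractionRing PK) Ω).injective.comp (IsFractionRing.injective PK _)
  rw [isIntegral_algebraMap_iff hinj] at hint
  haveI := MvPolynomial.isLocalization (σ := Fin n) (nonZeroDivisors A) K
  haveI : IsFractionRing PA (FractionRing PA) := inferInstance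
  let ι : PK →+* FractionRing PA := IsLocalization.lift (M := (nonZeroDivisors A).map (C (σ := Fin n)))
    (g := algebraMap PA (FractionRing PA)) fun y => by
      obtain ⟨c, hc, hcy⟩ := Submonoid.mem_map.1 y.2
      refine IsUnit.mk0 _ fun h0 => ?_
      rw [← hcy] at h0
      exact nonZeroDivisors.ne_zero hc (C_injective _ _ ((IsFractionRing.injective PA _)
        (h0.trans (map_zero _).symm) |>.trans (map_zero C).symm))
  letI : Algebra PK (FractionRing PA) := ι.toAlgebra
  haveI : IsScalarTower PA PK (FractionRing PA) :=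
    IsScalarTower.of_algebraMap_eq fun q => (IsLocalization.lift_eq _ q).symm
  haveI : IsFractionRing PK (FractionRing PA) :=
    IsFractionRing.isFractionRing_of_isDomain_of_isLocalization
      ((nonZeroDivisors A).map (C (σ := Fin n))) PK (FractionRing PA)
  obtain ⟨F, hF⟩ := IsIntegrallyClosed.isIntegral_iff.1
    (hint.map (IsScalarTower.toAlgHom PA PK (FractionRing PA)))
  refine ⟨F, IsFractionRing.injective PK (FractionRing PA) ?_⟩
  have e := IsScalarTower.algebraMap_apply PA PK (FractionRing PA) F
  rw [MvPolynomial.algebraMap_def] at e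
  exact e.symm.trans hF

omit [IsDomain A] [IsIntegrallyClosed A] [IsFractionRing A K] in
theorem isRegular_iff_norm {P M : Type u} [CommRing P] [CommRing M] [Algebra K P] [Algebra P M]
    (e : P ⊗[K] L ≃ₐ[P] M) (bas : Module.Basis (Fin d) K L) (x : M) :
    IsRegular x ↔ IsRegular (Algebra.norm P x) := by
  set bM := (Algebra.TensorProduct.basis P bas).map e.toLinearEquiv
  rw [Algebra.norm_eq_matrix_det bM]
  have key : ∀ y, (Algebra.leftMulMatrix bM x).mulVec (bM.equivFun y) = bM.equivFun (x * y) :=
    fun y => Algebra.leftMulMatrix_mulVec_repr bM x y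
  constructor
  · intro hx
    refine isRegular_det_of_injective _ fun v w h => ?_
    obtain ⟨y, rfl⟩ := bM.equivFun.surjective v
    obtain ⟨z, rfl⟩ := bM.equivFun.surjective w
    rw [key, key] at h
    exact congrArg bM.equivFun (hx.left (bM.equivFun.injective h))
  · intro hd
    rw [isRegular_iff_mem_nonZeroDivisors] at hd
    rw [← isLeftRegular_iff_isRegular]
    intro y z h
    exact bM.equivFun.injective (Matrix.mulVec_injective_of_det_mem_nonZeroDivisors hd
      (by rw [key, key]; exact congrArg bM.equivFun h))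

/-- The norm of an element with integral coordinates is a polynomial over the base. -/
theorem exists_norm_eq {P M : Type u} [CommRing P] [CommRing M] [Algebra K P] [Algebra P M]
    (e : P ⊗[K] L ≃ₐ[P] M) (bas : Module.Basis (Fin d) K L) {n : ℕ} (b : Fin n → L)
    (hb : ∀ i, IsIntegral A (b i)) (r : Fin n → P) :
    ∃ F : MvPolynomial (Fin n) A, Algebra.norm P (e (∑ i, r i ⊗ₜ[K] b i)) =
      MvPolynomial.eval₂ ((algebraMap K P).comp (algebraMap A K)) r F := by
  obtain ⟨F, hF⟩ := exists_det_eq bas b hb
  refine ⟨F, ?_⟩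
  rw [Algebra.norm_eq_of_algEquiv, Algebra.norm_eq_matrix_det (Algebra.TensorProduct.basis P bas),
    ← map_genMatrix bas b P r]
  have h : ((genMatrix bas b).map (aeval r)).det = aeval r (genMatrix bas b).det :=
    ((aeval r).map_det _).symm
  rw [h, ← hF, MvPolynomial.aeval_def, MvPolynomial.eval₂_map]

omit [IsDomain A] [IsIntegrallyClosed A] [IsFractionRing A K] [Field K] in
theorem exists_sum_tmul {k R B : Type u} [Field k] [CommRing R] [Algebra k R] [CommRing B] [Algebra k B]
    (x : B ⊗[k] R) : ∃ (n : ℕ) (b : Fin n → B) (r : Fin n → R), x = ∑ i, b i ⊗ₜ[k] r i := by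
  induction x with
  | zero => exact ⟨0, Fin.elim0, Fin.elim0, by simp⟩
  | tmul b r => exact ⟨1, fun _ => b, fun _ => r, by simp⟩
  | add x y hx hy =>
    obtain ⟨n, b, r, rfl⟩ := hx
    obtain ⟨m, b', r', rfl⟩ := hy
    exact ⟨n + m, Fin.append b b', Fin.append r r', by rw [Fin.sum_univ_add]; simp⟩

end GrothLib.NormBC
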